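import Mathlib

/-!
# Mittag-Leffler systems of abelian groups

`exists_section`: Mittag-Leffler systems of nonempty sets with countable cofinal index set have
sections; `exists_lift`: the resulting lifting to limits; extensions; comparison of the cohomology
of a limit of complexes with the limit of the cohomologies.
-/

universe u v

open CategoryTheory CategoryTheory.Limits Opposite

namespace Groth.Agent.LimTower.Basic

variable {ι : Type v} [Preorder ι] [IsDirected ι (· ≤ ·)] [Nonempty ι]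

/-- A Mittag-Leffler system of nonempty sets over a countable cofinality has a section. -/
theorem exists_section (hcof : ∃ s : Set ι, s.Countable ∧ ∀ i, ∃ j ∈ s, i ≤ j)
    (F : ιᵒᵖ ⥤ Type u) (hF : F.IsMittagLeffler) (hne : ∀ i, Nonempty (F.obj i)) :
    ∃ s : ∀ i, F.obj i, ∀ (i j : ιᵒᵖ) (f : i ⟶ j), F.map f (s i) = s j := by
  obtain ⟨S, hS, hcof⟩ := hcof
  have hSne : S.Nonempty := by
    obtain ⟨j, hj, -⟩ := hcof (Classical.arbitrary ι)
    exact ⟨j, hj⟩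
  obtain ⟨g, rfl⟩ := hS.exists_eq_range hSne
  have hnext : ∀ (a b : ι), ∃ c, a ≤ c ∧ b ≤ c := directed_of (· ≤ ·)
  choose up hup₁ hup₂ using hnext
  let f : ℕ → ι := fun n => Nat.rec (g 0) (fun n a => up a (g (n + 1))) n
  have hf : ∀ n, f n ≤ f (n + 1) := fun n => hup₁ _ _
  have hfm : Monotone f := monotone_nat_of_le_succ hf
  have hfc : ∀ i, ∃ n, i ≤ f n := fun i => by
    obtain ⟨_, ⟨n, rfl⟩, hi⟩ := hcof i
    refine ⟨n, hi.trans ?_⟩
    cases n with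
    | zero => exact le_rfl
    | succ n => exact hup₂ _ _
  have hne' := F.toEventualRanges_nonempty hF
  have hsurj := F.surjective_toEventualRanges hF
  let e : ∀ n, F.toEventualRanges.obj (op (f n)) := fun n =>
    Nat.rec (hne' _).some (fun n x => (hsurj (homOfLE (hf n)).op x).choose) n
  have he : ∀ n, F.map (homOfLE (hf n)).op (e (n + 1)).1 = (e n).1 := fun n =>
    congrArg Subtype.val (hsurj (homOfLE (hf n)).op (e n)).choose_spec
  have hmm : ∀ {a b c : ιᵒᵖ} (p : a ⟶ b) (q : b ⟶ c) (x : F.obj a),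
      F.map q (F.map p x) = F.map (p ≫ q) x := fun p q x => (F.map_comp_apply p q x).symm
  have hsub : ∀ {a b : ιᵒᵖ} (p q : a ⟶ b) (x : F.obj a), F.map p x = F.map q x := fun p q x => by
    rw [show p = q from Quiver.Hom.unop_inj (Subsingleton.elim (α := _ ⟶ _) _ _)]
  have he' : ∀ n m (h : n ≤ m), F.map (homOfLE (hfm h)).op (e m).1 = (e n).1 := by
    intro n m h
    induction m, h using Nat.le_induction with
    | base => exact F.map_id_apply _ _
    | succ m h ih =>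
      rw [← ih, ← he m, hmm]
      exact hsub _ _ _
  choose N hN using hfc
  refine ⟨fun i => F.map (homOfLE (hN i.unop)).op (e (N i.unop)).1, fun i j p => ?_⟩
  have hi := le_max_left (N i.unop) (N j.unop)
  have hj := le_max_right (N i.unop) (N j.unop)
  dsimp only
  rw [hmm, ← he' _ _ hi, ← he' _ _ hj, hmm, hmm]
  exact hsub _ _ _

variable {A B C : ιᵒᵖ ⥤ AddCommGrpCat.{u}}

omit [IsDirected ι (· ≤ ·)] [Nonempty ι] in
lemma map_map (F : ιᵒᵖ ⥤ AddCommGrpCat.{u}) {a b c : ιᵒᵖ} (p : a ⟶ b) (q : b ⟶ c) (r : a ⟶ c)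
    (x : F.obj a) : (F.map q).hom ((F.map p).hom x) = (F.map r).hom x := by
  rw [Subsingleton.elim r (p ≫ q)]
  exact (ConcreteCategory.congr_hom (F.map_comp p q) x).symm

omit [IsDirected ι (· ≤ ·)] [Nonempty ι] in
lemma nat_app (φ : A ⟶ B) {a b : ιᵒᵖ} (p : a ⟶ b) (x : A.obj a) :
    (B.map p).hom ((φ.app a).hom x) = (φ.app b).hom ((A.map p).hom x) :=
  (ConcreteCategory.congr_hom (φ.naturality p) x).symm

/-- Mittag-Leffler, elementwise. -/
def ML (A : ιᵒᵖ ⥤ AddCommGrpCat.{u}) : Prop :=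
  (A ⋙ forget AddCommGrpCat).IsMittagLeffler

omit [IsDirected ι (· ≤ ·)] [Nonempty ι] in
lemma ML.stable (h : ML A) (j : ιᵒᵖ) : ∃ (i : ιᵒᵖ) (f : i ⟶ j),
    ∀ (k : ιᵒᵖ) (g : k ⟶ j) (x : A.obj i), ∃ y, (A.map g).hom y = (A.map f).hom x := by
  obtain ⟨i, f, hf⟩ := h j
  exact ⟨i, f, fun k g x => hf g ⟨x, rfl⟩⟩

omit [IsDirected ι (· ≤ ·)] [Nonempty ι] in
lemma ML.mk (h : ∀ j : ιᵒᵖ, ∃ (i : ιᵒᵖ) (f : i ⟶ j),
    ∀ (k : ιᵒᵖ) (g : k ⟶ j) (x : A.obj i), ∃ y, (A.map g).hom y = (A.map f).hom x) : ML A := by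
  intro j
  obtain ⟨i, f, hf⟩ := h j
  exact ⟨i, f, fun k g => by rintro _ ⟨x, rfl⟩; exact hf k g x⟩

omit [IsDirected ι (· ≤ ·)] [Nonempty ι] in
/-- An image of a Mittag-Leffler system. -/
lemma ML.of_surjective (h : ML A) (φ : A ⟶ B) (hφ : ∀ i, Function.Surjective (φ.app i).hom) :
    ML B := ML.mk fun j => by
  obtain ⟨i, f, hf⟩ := h.stable j
  refine ⟨i, f, fun k g b => ?_⟩
  obtain ⟨a, rfl⟩ := hφ i b
  obtain ⟨a', ha'⟩ := hf k g a
  exact ⟨(φ.app k).hom a', by rw [nat_app, ha', ← nat_app]⟩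

omit [Nonempty ι] in
/-- Extensions of Mittag-Leffler systems. -/
lemma ML.extension (u : A ⟶ B) (v : B ⟶ C)
    (hex : ∀ i b, (v.app i).hom b = 0 → ∃ a, (u.app i).hom a = b)
    (hvu : ∀ i a, (v.app i).hom ((u.app i).hom a) = 0)
    (hv : ∀ i, Function.Surjective (v.app i).hom)
    (hA : ML A) (hC : ML C) : ML B := ML.mk fun j => by
  obtain ⟨i₁, f₁, h₁⟩ := hA.stable j
  obtain ⟨i₂, f₂, h₂⟩ := hC.stable i₁
  refine ⟨i₂, f₂ ≫ f₁, fun k g b => ?_⟩
  obtain ⟨m, hmi, hmk⟩ := directed_of (· ≤ ·) i₁.unop k.unop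
  let pi : op m ⟶ i₁ := (homOfLE hmi).op
  let pk : op m ⟶ k := (homOfLE hmk).op
  obtain ⟨c, hc⟩ := h₂ (op m) pi ((v.app i₂).hom b)
  obtain ⟨bm, rfl⟩ := hv _ c
  rw [nat_app, nat_app] at hc
  obtain ⟨a, ha⟩ := hex i₁ ((B.map f₂).hom b - (B.map pi).hom bm) (by rw [map_sub, hc, sub_self])
  obtain ⟨am, ham⟩ := h₁ k g a
  refine ⟨(B.map pk).hom bm + (u.app k).hom am, ?_⟩
  rw [map_add, nat_app, ham, ← nat_app, ha, map_map B pk g (pi ≫ f₁), map_sub,
    map_map B f₂ f₁ (f₂ ≫ f₁), map_map B pi f₁ (pi ≫ f₁), add_sub_cancel]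

/-- Lifting to limits: `A → B → C` exact, `A` Mittag-Leffler. -/
theorem exists_lift (hcof : ∃ s : Set ι, s.Countable ∧ ∀ i, ∃ j ∈ s, i ≤ j)
    (u : A ⟶ B) (v : B ⟶ C)
    (hex : ∀ i b, (v.app i).hom b = 0 → ∃ a, (u.app i).hom a = b)
    (hvu : ∀ i a, (v.app i).hom ((u.app i).hom a) = 0)
    (hA : ML A) (y : ∀ i, C.obj i) (hy : ∀ (i j : ιᵒᵖ) (f : i ⟶ j), (C.map f).hom (y i) = y j)
    (hne : ∀ i, ∃ b, (v.app i).hom b = y i) :
    ∃ x : ∀ i, B.obj i, (∀ (i j : ιᵒᵖ) (f : i ⟶ j), (B.map f).hom (x i) = x j) ∧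
      ∀ i, (v.app i).hom (x i) = y i := by
  let F : ιᵒᵖ ⥤ Type u :=
    { obj := fun i => {b : B.obj i // (v.app i).hom b = y i}
      map := fun {i j} f => ↾(fun b : {b : B.obj i // (v.app i).hom b = y i} =>
        (⟨(B.map f).hom b.1, by rw [← nat_app, b.2, hy]⟩ : {b : B.obj j // (v.app j).hom b = y j}))
      map_id := fun i => by
        ext b
        exact ConcreteCategory.congr_hom (B.map_id i) b.1
      map_comp := fun p q => by
        ext b
        exact ConcreteCategory.congr_hom (B.map_comp p q) b.1 }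
  have hF : F.IsMittagLeffler := by
    intro j
    obtain ⟨i, f, hf⟩ := hA.stable j
    refine ⟨i, f, fun k g => ?_⟩
    rintro _ ⟨⟨b, hb⟩, rfl⟩
    obtain ⟨m, hmi, hmk⟩ := directed_of (· ≤ ·) i.unop k.unop
    let pi : op m ⟶ i := (homOfLE hmi).op
    let pk : op m ⟶ k := (homOfLE hmk).op
    obtain ⟨bm, hbm⟩ := hne (op m)
    obtain ⟨a, ha⟩ := hex i (b - (B.map pi).hom bm) (by
      rw [map_sub, hb, ← nat_app, hbm, hy, sub_self])
    obtain ⟨ak, hak⟩ := hf k g a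
    refine ⟨⟨(B.map pk).hom bm + (u.app k).hom ak, by
      rw [map_add, ← nat_app, hbm, hy, hvu, add_zero]⟩, Subtype.ext ?_⟩
    show (B.map g).hom ((B.map pk).hom bm + (u.app k).hom ak) = (B.map f).hom b
    rw [map_add, nat_app, hak, ← nat_app, ha, map_map B pk g (pi ≫ f), map_sub,
      map_map B pi f (pi ≫ f), add_sub_cancel]
  obtain ⟨s, hs⟩ := exists_section hcof F hF fun i => ⟨⟨_, (hne i).choose_spec⟩⟩
  exact ⟨fun i => (s i).1, fun i j f => congrArg Subtype.val (hs i j f), fun i => (s i).2⟩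

section limits

variable [HasLimitsOfShape ιᵒᵖ AddCommGrpCat.{u}]
  [PreservesLimitsOfShape ιᵒᵖ (forget AddCommGrpCat.{u})]

omit [IsDirected ι (· ≤ ·)] [Nonempty ι] in
lemma exists_limit_eq (F : ιᵒᵖ ⥤ AddCommGrpCat.{u}) {c : Cone F} (hc : IsLimit c)
    (x : ∀ i, F.obj i) (hx : ∀ (i j : ιᵒᵖ) (f : i ⟶ j), (F.map f).hom (x i) = x j) :
    ∃ z : c.pt, ∀ i, (c.π.app i).hom z = x i := by
  obtain ⟨z, hz, -⟩ := (Types.isLimit_iff _).1
    ⟨isLimitOfPreserves (forget AddCommGrpCat.{u}) hc⟩ x (fun {i j} f => hx i j f)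
  exact ⟨z, hz⟩

omit [IsDirected ι (· ≤ ·)] [Nonempty ι] in
lemma limit_app_compat (F : ιᵒᵖ ⥤ AddCommGrpCat.{u}) (z : (limit F : AddCommGrpCat.{u})) (i j : ιᵒᵖ)
    (f : i ⟶ j) : (F.map f).hom ((limit.π F i).hom z) = (limit.π F j).hom z :=
  ConcreteCategory.congr_hom (limit.w F f) z

/-- Lifting to limits, for limit objects. -/
theorem exists_lift_limit (hcof : ∃ s : Set ι, s.Countable ∧ ∀ i, ∃ j ∈ s, i ≤ j)
    (u : A ⟶ B) (v : B ⟶ C)
    (hex : ∀ i b, (v.app i).hom b = 0 → ∃ a, (u.app i).hom a = b)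
    (hvu : ∀ i a, (v.app i).hom ((u.app i).hom a) = 0)
    (hA : ML A) (y : (limit C : AddCommGrpCat.{u}))
    (hne : ∀ i, ∃ b, (v.app i).hom b = (limit.π C i).hom y) :
    ∃ x : (limit B : AddCommGrpCat.{u}), (limMap v).hom x = y := by
  obtain ⟨x, hx, hxy⟩ := exists_lift hcof u v hex hvu hA (fun i => (limit.π C i).hom y)
    (limit_app_compat C y) hne
  obtain ⟨z, hz⟩ := exists_limit_eq B (limit.isLimit B) x hx
  refine ⟨z, Concrete.limit_ext _ _ _ fun i => ?_⟩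
  exact (ConcreteCategory.congr_hom (limMap_π v i) z).trans
    ((congrArg (v.app i).hom (hz i)).trans (hxy i))

end limits

end Groth.Agent.LimTower.Basic
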