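import Groth.Agent.LimTower.Equiv

/-!
# `lim¹` of a Mittag-Leffler tower vanishes

`towerDiff_surjective_of_ml`: for a Mittag-Leffler tower of abelian groups indexed by `ℕ`,
`towerDiff` is surjective.
-/

universe u

open CategoryTheory CategoryTheory.Limits Opposite

namespace Groth.Agent.LimTower.NatVanish

open Groth.Agent.LimTower.Basic

theorem towerDiff_surjective_of_ml (G : ℕᵒᵖ ⥤ AddCommGrpCat.{u}) (hG : ML G) :
    Function.Surjective (Formal2.towerDiff (fun n => G.obj (op n))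
      (fun n => (G.map (homOfLE (Nat.le_succ n)).op).hom)) := by
  intro a
  let st : ∀ n, G.obj (op (n + 1)) →+ G.obj (op n) := fun n => (G.map (homOfLE (Nat.le_succ n)).op).hom
  let tB : ∀ n, (G.obj (op (n + 1)) × ULift.{u} ℤ) →+ (G.obj (op n) × ULift.{u} ℤ) := fun n =>
    AddMonoidHom.mk' (fun x => (st n x.1 + x.2.down • a n, x.2)) fun x y => Prod.ext (by
      show st n (x.1 + y.1) + (x.2.down + y.2.down) • a n = _
      rw [map_add, add_zsmul]
      exact add_add_add_comm _ _ _ _) rfl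
  let B := Equiv.ofSeq (fun n => G.obj (op n) × ULift.{u} ℤ) tB
  let C : ℕᵒᵖ ⥤ AddCommGrpCat.{u} := (Functor.const _).obj (AddCommGrpCat.of (ULift.{u} ℤ))
  let uu : G ⟶ B := NatTrans.ofOpSequence (fun n => AddCommGrpCat.ofHom (AddMonoidHom.inl _ _))
    fun n => by
      rw [Functor.ofOpSequence_map_homOfLE_succ]
      ext x
      show (st n x, (0 : ULift.{u} ℤ)) = (st n x + (0 : ℤ) • a n, (0 : ULift.{u} ℤ))
      rw [zero_zsmul, add_zero]
  let vv : B ⟶ C := NatTrans.ofOpSequence (fun n => AddCommGrpCat.ofHom (AddMonoidHom.snd _ _))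
    fun n => by
      rw [Functor.ofOpSequence_map_homOfLE_succ]
      rfl
  obtain ⟨x, hx, hx'⟩ := exists_lift (A := G) (B := B) (C := C)
    ⟨Set.univ, Set.countable_univ, fun i => ⟨i, trivial, le_rfl⟩⟩ uu vv
    (fun i b hb => ⟨b.1, Prod.ext rfl hb.symm⟩) (fun i a => rfl) hG (fun _ => ULift.up 1)
    (fun _ _ _ => rfl) (fun i => ⟨((0 : G.obj i), ULift.up (1 : ℤ)), rfl⟩)
  have h2 : ∀ n, (x (op n)).2 = ULift.up (1 : ℤ) := fun n => hx' (op n)
  refine ⟨fun n => (x (op n)).1, funext fun n => ?_⟩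
  have h := congrArg Prod.fst (hx (op (n + 1)) (op n) (homOfLE (Nat.le_succ n)).op)
  rw [Functor.ofOpSequence_map_homOfLE_succ] at h
  have h' : st n (x (op (n + 1))).1 + (x (op (n + 1))).2.down • a n = (x (op n)).1 := h
  rw [h2, one_zsmul] at h'
  show (x (op n)).1 - st n (x (op (n + 1))).1 = a n
  rw [← h', add_sub_cancel_left]

end Groth.Agent.LimTower.NatVanish
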