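import Groth.Agent.LimTower.Equiv

/-!
# The six-term sequence of a tower of short exact sequences, pure algebra

`main`: from towers `A → G → Q → H` (exact, `G` with surjective transition maps) and the limit
objects, the map from `LH` to `lim H` is surjective with kernel `lim¹ A`.
-/

universe u

namespace Groth.Agent.LimTower.SixTerm

variable {A G Q H : ℕ → Type u} [∀ n, AddCommGroup (A n)] [∀ n, AddCommGroup (G n)]
  [∀ n, AddCommGroup (Q n)] [∀ n, AddCommGroup (H n)] {LG LQ LH : Type u} [AddCommGroup LG]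
  [AddCommGroup LQ] [AddCommGroup LH]

/-- The data. -/
structure Data (A G Q H : ℕ → Type u) [∀ n, AddCommGroup (A n)] [∀ n, AddCommGroup (G n)]
    [∀ n, AddCommGroup (Q n)] [∀ n, AddCommGroup (H n)] (LG LQ LH : Type u) [AddCommGroup LG]
    [AddCommGroup LQ] [AddCommGroup LH] where
  tA : ∀ n, A (n + 1) →+ A n
  tG : ∀ n, G (n + 1) →+ G n
  tQ : ∀ n, Q (n + 1) →+ Q n
  tH : ∀ n, H (n + 1) →+ H n
  i : ∀ n, A n →+ G n
  p : ∀ n, G n →+ Q n
  δ : ∀ n, Q n →+ H n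
  i_inj : ∀ n, Function.Injective (i n)
  ex_G : ∀ n g, p n g = 0 → ∃ a, i n a = g
  p_i : ∀ n a, p n (i n a) = 0
  ex_Q : ∀ n q, δ n q = 0 ↔ ∃ g, p n g = q
  δ_surj : ∀ n, Function.Surjective (δ n)
  c_i : ∀ n a, i n (tA n a) = tG n (i (n + 1) a)
  c_p : ∀ n g, p n (tG n g) = tQ n (p (n + 1) g)
  c_δ : ∀ n q, δ n (tQ n q) = tH n (δ (n + 1) q)
  tG_surj : ∀ n, Function.Surjective (tG n)
  πG : ∀ n, LG →+ G n
  πQ : ∀ n, LQ →+ Q n
  πH : ∀ n, LH →+ H n
  pL : LG →+ LQ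
  δL : LQ →+ LH
  compat_G : ∀ n a, tG n (πG (n + 1) a) = πG n a
  compat_Q : ∀ n a, tQ n (πQ (n + 1) a) = πQ n a
  ext_Q : ∀ a b, (∀ n, πQ n a = πQ n b) → a = b
  exists_Q : ∀ a : ∀ n, Q n, (∀ n, tQ n (a (n + 1)) = a n) → ∃ z, ∀ n, πQ n z = a n
  exists_G : ∀ a : ∀ n, G n, (∀ n, tG n (a (n + 1)) = a n) → ∃ z, ∀ n, πG n z = a n
  c_pL : ∀ n x, πQ n (pL x) = p n (πG n x)
  c_δL : ∀ n a, πH n (δL a) = δ n (πQ n a)
  ex_LQ : ∀ a, δL a = 0 ↔ ∃ x, pL x = a
  δL_surj : Function.Surjective δL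

namespace Data

variable (D : Data A G Q H LG LQ LH)

theorem surj (ξ : ∀ n, H n) (hξ : ∀ n, D.tH n (ξ (n + 1)) = ξ n) : ∃ η, ∀ n, D.πH n η = ξ n := by
  choose a ha using fun n => D.δ_surj n (ξ n)
  have hd : ∀ n, ∃ g, D.p n g = a n - D.tQ n (a (n + 1)) := fun n => (D.ex_Q n _).1 (by
    rw [map_sub, D.c_δ, ha, ha, hξ, sub_self])
  choose g hg using hd
  obtain ⟨s, hs⟩ := Equiv.towerDiff_surjective G D.tG D.tG_surj g
  have hs' : ∀ n, s n - D.tG n (s (n + 1)) = g n := fun n => congrFun hs n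
  obtain ⟨z, hz⟩ := D.exists_Q (fun n => a n - D.p n (s n)) fun n => by
    have h1 := congrArg (D.p n) (hs' n)
    rw [map_sub, D.c_p, hg] at h1
    rw [map_sub, ← sub_eq_zero]
    rw [← sub_eq_zero] at h1
    refine Eq.trans ?_ h1
    abel
  refine ⟨D.δL z, fun n => ?_⟩
  rw [D.c_δL, hz, map_sub, ha, (D.ex_Q n _).2 ⟨s n, rfl⟩, sub_zero]

theorem ker : Nonempty ((AddMonoidHom.pi D.πH).ker ≃+ Formal2.limOne A D.tA) := by
  let Y : AddSubgroup (∀ n, G n) :=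
    { carrier := {g | ∀ n, D.p n (g n - D.tG n (g (n + 1))) = 0}
      zero_mem' := fun n => by simp
      add_mem' := fun {a b} ha hb n => by
        simp only [Pi.add_apply, map_add, add_sub_add_comm, ha n, hb n, add_zero]
      neg_mem' := fun {a} ha n => by
        simp only [Pi.neg_apply, map_neg, neg_sub_neg]
        rw [← neg_sub, map_neg, ha n, neg_zero] }
  have hz : ∀ y : Y, ∃ z, ∀ n, D.πQ n z = D.p n (y.1 n) := fun y => D.exists_Q _ fun n => by
    have h := y.2 n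
    rw [map_sub, sub_eq_zero] at h
    rw [← D.c_p]
    exact h.symm
  choose z hz using hz
  let zH : Y →+ LH := AddMonoidHom.mk' (fun y => D.δL (z y)) fun a b => by
    rw [← map_add]
    exact congrArg D.δL (D.ext_Q _ _ fun n => by
      rw [map_add, hz, hz, hz]; exact map_add (D.p n) _ _)
  choose w hw using fun (y : Y) n => D.ex_G n _ (y.2 n)
  let c : Y →+ ∀ n, A n := AddMonoidHom.mk' w fun a b => funext fun n => D.i_inj n (by
    rw [Pi.add_apply, map_add, hw, hw, hw]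
    show (a.1 n + b.1 n) - D.tG n (a.1 (n + 1) + b.1 (n + 1)) = _
    rw [map_add]
    abel)
  refine Equiv.equiv_of_data zH (AddMonoidHom.pi D.πH) c _ (fun y => funext fun n => ?_)
    (fun h hh => ?_) (fun d => ?_) (fun y hy => ?_) (fun y hy => ?_)
  · show D.πH n (D.δL (z y)) = 0
    rw [D.c_δL, hz]
    exact (D.ex_Q n _).2 ⟨_, rfl⟩
  · obtain ⟨a, rfl⟩ := D.δL_surj h
    have hg : ∀ n, ∃ g, D.p n g = D.πQ n a := fun n =>
      (D.ex_Q n _).1 ((D.c_δL n a).symm.trans (congrFun hh n))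
    choose g hg using hg
    have hgY : g ∈ Y := fun n => by rw [map_sub, D.c_p, hg, hg, D.compat_Q, sub_self]
    exact ⟨⟨g, hgY⟩, congrArg D.δL (D.ext_Q _ _ fun n => (hz ⟨g, hgY⟩ n).trans (hg n))⟩
  · obtain ⟨g, hg⟩ := Equiv.towerDiff_surjective G D.tG D.tG_surj fun n => D.i n (d n)
    have hgY : g ∈ Y := fun n => (congrArg (D.p n) (congrFun hg n)).trans (D.p_i n (d n))
    exact ⟨⟨g, hgY⟩, funext fun n => D.i_inj n ((hw ⟨g, hgY⟩ n).trans (congrFun hg n))⟩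
  · obtain ⟨x, hx⟩ := (D.ex_LQ (z y)).1 hy
    have hr : ∀ n, ∃ r, D.i n r = y.1 n - D.πG n x := fun n => D.ex_G n _ (by
      rw [map_sub, ← D.c_pL, hx, hz, sub_self])
    choose r hr using hr
    refine ⟨r, funext fun n => D.i_inj n ?_⟩
    show D.i n (r n - D.tA n (r (n + 1))) = D.i n (w y n)
    rw [map_sub, D.c_i, hr, hr, map_sub, D.compat_G, hw]
    abel
  · obtain ⟨r, hr⟩ := hy
    obtain ⟨x, hx⟩ := D.exists_G (fun n => y.1 n - D.i n (r n)) fun n => by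
      have h1 : D.i n (r n - D.tA n (r (n + 1))) = y.1 n - D.tG n (y.1 (n + 1)) :=
        (congrArg (D.i n) (congrFun hr n)).trans (hw y n)
      rw [map_sub, D.c_i] at h1
      rw [map_sub, ← sub_eq_zero]
      rw [← sub_eq_zero] at h1
      refine Eq.trans ?_ h1
      abel
    refine (D.ex_LQ (z y)).2 ⟨x, D.ext_Q _ _ fun n => ?_⟩
    rw [D.c_pL, hx, hz, map_sub, D.p_i, sub_zero]

end Data

end Groth.Agent.LimTower.SixTerm
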