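import Groth.Agent.LimTower.Basic
import Groth.Agent.CohTop.Vanishing

/-!
# Limits of towers of abelian sheaves on sections
-/

universe u

open CategoryTheory CategoryTheory.Limits Opposite TopologicalSpace

namespace Groth.Agent.LimTower.SheafTower

open Groth.Agent.LimTower.Basic Groth.Agent.CohTop.Vanishing

variable {X : TopCat.{u}}

/-- Sections over `U`. -/
noncomputable abbrev Ev (U : Opens X) : CohTop.Ab X ⥤ AddCommGrpCat.{u} :=
  sheafToPresheaf _ _ ⋙ (evaluation _ _).obj (op U)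

variable (M : ℕᵒᵖ ⥤ CohTop.Ab X)

noncomputable def isLimitEv (U : Opens X) : IsLimit ((Ev U).mapCone (limit.cone M)) :=
  isLimitOfPreserves (Ev U) (limit.isLimit M)

/-- A section of the limit from a compatible family. -/
theorem exists_section (U : Opens X) (x : ∀ n, (M.obj n).obj.obj (op U))
    (hx : ∀ (i j : ℕᵒᵖ) (f : i ⟶ j), ((M.map f).hom.app (op U)).hom (x i) = x j) :
    ∃ z : (limit M : CohTop.Ab X).obj.obj (op U),
      ∀ n, ((limit.π M n).hom.app (op U)).hom z = x n :=
  exists_limit_eq (M ⋙ Ev U) (isLimitEv M U) x hx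

theorem ext_section (U : Opens X) (z z' : (limit M : CohTop.Ab X).obj.obj (op U))
    (h : ∀ n, ((limit.π M n).hom.app (op U)).hom z = ((limit.π M n).hom.app (op U)).hom z') : z = z' :=
  Concrete.isLimit_ext (M ⋙ Ev U) (isLimitEv M U) z z' h

theorem compat_section (U : Opens X) (z : (limit M : CohTop.Ab X).obj.obj (op U)) (i j : ℕᵒᵖ)
    (f : i ⟶ j) : ((M.map f).hom.app (op U)).hom (((limit.π M i).hom.app (op U)).hom z) =
      ((limit.π M j).hom.app (op U)).hom z :=
  ConcreteCategory.congr_hom (congrArg (fun φ => φ.hom.app (op U)) (limit.w M f)) z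

lemma rs_surjective (F : CohTop.Ab X) [TopCat.Sheaf.IsFlasque F] {U V : Opens X} (h : V ≤ U) :
    Function.Surjective (rs F h) :=
  (AddCommGrpCat.epi_iff_surjective _).1
    (TopCat.Presheaf.IsFlasque.epi (F := F.obj) (homOfLE h).op)

/-- An epimorphism with flasque kernel is surjective on sections. -/
theorem app_surjective {A B : CohTop.Ab X} (f : A ⟶ B) [Epi f]
    [TopCat.Sheaf.IsFlasque (kernel f : CohTop.Ab X)] (U : Opens X) :
    Function.Surjective (f.hom.app (op U)).hom := by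
  let S : ShortComplex (CohTop.Ab X) := ShortComplex.mk (kernel.ι f) f (kernel.condition f)
  have hS : S.ShortExact := ShortComplex.ShortExact.mk'
    (ShortComplex.exact_of_f_is_kernel _ (kernelIsKernel _)) inferInstance inferInstance
  have : TopCat.Sheaf.IsFlasque S.X₁ := (inferInstance : TopCat.Sheaf.IsFlasque (kernel f : CohTop.Ab X))
  exact (AddCommGrpCat.epi_iff_surjective _).1
    (TopCat.Sheaf.IsFlasque.epi_of_shortExact (U := U) hS)

/-- Compatible families from successive transition maps. -/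
theorem compat_nat (F : ℕᵒᵖ ⥤ AddCommGrpCat.{u}) (x : ∀ n, F.obj (op n))
    (h : ∀ n, (F.map (homOfLE (Nat.le_succ n)).op).hom (x (n + 1)) = x n) (i j : ℕᵒᵖ) (f : i ⟶ j) :
    (F.map f).hom (x i.unop) = x j.unop := by
  obtain ⟨i⟩ := i; obtain ⟨j⟩ := j
  have hij : j ≤ i := leOfHom f.unop
  obtain rfl : f = (homOfLE hij).op := Quiver.Hom.unop_inj (Subsingleton.elim _ _)
  induction i, hij using Nat.le_induction with
  | base => exact ConcreteCategory.congr_hom (F.map_id _) (x j)
  | succ i hij ih =>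
    show _ = x j
    rw [← ih, ← h i]
    exact (map_map F _ _ _ (x (i + 1))).symm

/-- Towers with surjective transition maps are Mittag-Leffler. -/
theorem ml_of_surjective (F : ℕᵒᵖ ⥤ AddCommGrpCat.{u})
    (h : ∀ n, Function.Surjective (F.map (homOfLE (Nat.le_succ n)).op).hom) : ML F := by
  refine ML.mk fun j => ⟨j, 𝟙 j, fun k g x => ?_⟩
  obtain ⟨k⟩ := k; obtain ⟨j⟩ := j
  have hjk : j ≤ k := leOfHom g.unop
  obtain rfl : g = (homOfLE hjk).op := Quiver.Hom.unop_inj (Subsingleton.elim _ _)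
  induction k, hjk using Nat.le_induction with
  | base => exact ⟨x, rfl⟩
  | succ k hjk ih =>
    obtain ⟨y, hy⟩ := ih
    obtain ⟨z, hz⟩ := h k y
    exact ⟨z, by rw [← hy, ← hz]; exact (map_map F _ _ _ z).symm⟩

theorem isFlasque_limit (hM : ∀ n, TopCat.Sheaf.IsFlasque (M.obj (op n)))
    (he : ∀ n, Epi (M.map (homOfLE (Nat.le_succ n)).op))
    (hk : ∀ n, TopCat.Sheaf.IsFlasque (kernel (M.map (homOfLE (Nat.le_succ n)).op) : CohTop.Ab X)) :
    TopCat.Sheaf.IsFlasque (limit M : CohTop.Ab X) := by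
  refine ⟨fun {U V} i => (AddCommGrpCat.epi_iff_surjective _).2 fun s => ?_⟩
  have h : V.unop ≤ U.unop := leOfHom i.unop
  let s' := fun n : ℕ => ((limit.π M (op n)).hom.app V).hom s
  have hs : ∀ n, ((M.map (homOfLE (Nat.le_succ n)).op).hom.app V).hom (s' (n + 1)) = s' n :=
    fun n => compat_section M V.unop s _ _ _
  have step : ∀ n (a : (M.obj (op n)).obj.obj U), rs (M.obj (op n)) h a = s' n →
      ∃ b : (M.obj (op (n + 1))).obj.obj U, rs (M.obj (op (n + 1))) h b = s' (n + 1) ∧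
        ((M.map (homOfLE (Nat.le_succ n)).op).hom.app U).hom b = a := fun n a ha => by
    have := he n; have := hk n
    let t := M.map (homOfLE (Nat.le_succ n)).op
    obtain ⟨b, hb⟩ := app_surjective t U.unop a
    have hd : (t.hom.app V).hom (rs (M.obj (op (n + 1))) h b - s' (n + 1)) = 0 := by
      rw [map_sub, hs, sub_eq_zero]
      exact (rs_app t h b).trans ((congrArg (rs (M.obj (op n)) h) hb).trans ha)
    obtain ⟨k, hkk⟩ := sections_exact (T := ShortComplex.mk (kernel.ι t) t (kernel.condition t))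
      (ShortComplex.ShortExact.mk' (ShortComplex.exact_of_f_is_kernel _ (kernelIsKernel _))
        inferInstance inferInstance) V.unop _ hd
    obtain ⟨k', rfl⟩ := rs_surjective (kernel t) h k
    refine ⟨b - ((kernel.ι t).hom.app U).hom k', ?_, ?_⟩
    · rw [map_sub, ← rs_app (kernel.ι t) h k']
      exact (congrArg (rs _ h b - ·) hkk).trans (sub_sub_cancel _ _)
    · rw [map_sub, hb]
      exact sub_eq_self.2 (ConcreteCategory.congr_hom (congr($(kernel.condition t).hom.app U)) k')
  choose next hn hn' using step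
  obtain ⟨a₀, ha₀⟩ := @rs_surjective X (M.obj (op 0)) (hM 0) U.unop V.unop h (s' 0)
  let a : ∀ n, {a : (M.obj (op n)).obj.obj U // rs (M.obj (op n)) h a = s' n} := fun n =>
    Nat.rec ⟨a₀, ha₀⟩ (fun n a => ⟨next n a.1 a.2, hn n a.1 a.2⟩) n
  obtain ⟨z, hz⟩ := exists_section M U.unop (fun n => (a n.unop).1)
    (compat_nat (M ⋙ Ev U.unop) (fun n => (a n).1) fun n => hn' n (a n).1 (a n).2)
  refine ⟨z, ext_section M V.unop _ _ fun n => ?_⟩
  refine (rs_app (limit.π M n) h z).trans ?_
  exact (congrArg (rs (M.obj n) h) (hz n)).trans (a n.unop).2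

theorem epi_limMap (S : ShortComplex (ℕᵒᵖ ⥤ CohTop.Ab X)) (hS : S.ShortExact)
    (h₁ : ∀ n : ℕ, TopCat.Sheaf.IsFlasque (S.X₁.obj (op n)))
    (he : ∀ n : ℕ, Epi (S.X₁.map (homOfLE (Nat.le_succ n)).op))
    (hk : ∀ n : ℕ, TopCat.Sheaf.IsFlasque (kernel (S.X₁.map (homOfLE (Nat.le_succ n)).op) : CohTop.Ab X)) :
    Epi (limMap S.g) := by
  refine (CategoryTheory.Sheaf.isLocallySurjective_iff_epi' AddCommGrpCat.{u} _).1 ?_
  refine (TopCat.Presheaf.isLocallySurjective_iff _).2 fun U y x hx => ⟨U, le_rfl, ?_, hx⟩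
  have hn : ∀ n : ℕᵒᵖ, (S.map ((evaluation ℕᵒᵖ (CohTop.Ab X)).obj n)).ShortExact :=
    fun n => hS.map_of_exact _
  obtain ⟨b, hb, hby⟩ := Basic.exists_lift (A := S.X₁ ⋙ Ev U) (B := S.X₂ ⋙ Ev U) (C := S.X₃ ⋙ Ev U)
    ⟨Set.univ, Set.countable_univ, fun i => ⟨i, trivial, le_rfl⟩⟩
    (Functor.whiskerRight S.f (Ev U)) (Functor.whiskerRight S.g (Ev U))
    (fun n b hb => sections_exact (hn n) U b hb)
    (fun n a => ConcreteCategory.congr_hom (congr(($(S.zero).app n).hom.app (op U))) a)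
    (ml_of_surjective _ fun n => by
      have := he n; have := hk n
      exact app_surjective _ U)
    (fun n => ((limit.π S.X₃ n).hom.app (op U)).hom y)
    (compat_section S.X₃ U y)
    (fun n => by
      have : TopCat.Sheaf.IsFlasque (S.map ((evaluation ℕᵒᵖ (CohTop.Ab X)).obj n)).X₁ := h₁ n.unop
      exact (AddCommGrpCat.epi_iff_surjective _).1
        (TopCat.Sheaf.IsFlasque.epi_of_shortExact (U := U) (hn n)) _)
  obtain ⟨z, hz⟩ := exists_section S.X₂ U b hb
  refine ⟨z, Eq.trans (ext_section S.X₃ U _ y fun n => ?_) (rs_refl (limit S.X₃) y).symm⟩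
  refine (ConcreteCategory.congr_hom (congrArg (fun φ => φ.hom.app (op U)) (limMap_π S.g n)) z).trans ?_
  exact (congrArg ((S.g.app n).hom.app (op U)).hom (hz n)).trans (hby n)

end Groth.Agent.LimTower.SheafTower
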