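import Groth.Agent.LimTower.Basic
import Groth.Prelude.Def_Formal2

/-!
# Algebra of `lim¹` of a tower

`equiv_of_data` (kernel presentation), `towerDiff_surjective` (surjective towers, Mittag-Leffler
towers), `congrLimOne`.
-/

universe u

open CategoryTheory CategoryTheory.Limits Opposite

namespace Groth.Agent.LimTower.Equiv

open Groth.Agent.LimTower.Basic

theorem towerDiff_surjective (G : ℕ → Type u) [∀ n, AddCommGroup (G n)] (t : ∀ n, G (n + 1) →+ G n)
    (h : ∀ n, Function.Surjective (t n)) : Function.Surjective (Formal2.towerDiff G t) := by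
  intro a
  choose r hr using fun n (b : G n) => h n b
  let x : ∀ n, G n := fun n => Nat.rec (motive := fun n => G n) 0 (fun n x => r n (x - a n)) n
  refine ⟨x, funext fun n => ?_⟩
  show x n - t n (r n (x n - a n)) = a n
  rw [hr, sub_sub_cancel]

theorem equiv_of_data {Yt H G M : Type u} [AddCommGroup Yt] [AddCommGroup H] [AddCommGroup G]
    [AddCommGroup M] (z : Yt →+ H) (post : H →+ G) (c : Yt →+ M) (R : AddSubgroup M)
    (h₁ : ∀ y, post (z y) = 0) (h₂ : ∀ h, post h = 0 → ∃ y, z y = h) (h₃ : Function.Surjective c)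
    (h₄ : ∀ y, z y = 0 → c y ∈ R) (h₅ : ∀ y, c y ∈ R → z y = 0) :
    Nonempty (post.ker ≃+ M ⧸ R) := by
  let left := z.codRestrict post.ker fun y => AddMonoidHom.mem_ker.2 (h₁ y)
  let right : Yt →+ M ⧸ R := (QuotientAddGroup.mk' R).comp c
  have hleft : Function.Surjective left := fun h => by
    obtain ⟨y, hy⟩ := h₂ h.1 (AddMonoidHom.mem_ker.1 h.2)
    exact ⟨y, Subtype.ext hy⟩
  have hright : Function.Surjective right := fun x => by
    obtain ⟨x, rfl⟩ := QuotientAddGroup.mk'_surjective _ x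
    obtain ⟨y, hy⟩ := h₃ x
    exact ⟨y, congrArg _ hy⟩
  have hk : left.ker = right.ker := AddSubgroup.ext fun y =>
    ⟨fun h => (QuotientAddGroup.eq_zero_iff _).2 (h₄ y (congrArg Subtype.val h)),
      fun h => Subtype.ext (h₅ y ((QuotientAddGroup.eq_zero_iff _).1 h))⟩
  exact ⟨((QuotientAddGroup.quotientKerEquivOfSurjective left hleft).symm.trans
    (QuotientAddGroup.quotientAddEquivOfEq hk)).trans
    (QuotientAddGroup.quotientKerEquivOfSurjective right hright)⟩

/-- `lim¹` is invariant under isomorphisms of towers. -/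
theorem congrLimOne {A B : ℕ → Type u} [∀ n, AddCommGroup (A n)] [∀ n, AddCommGroup (B n)]
    (s : ∀ n, A (n + 1) →+ A n) (t : ∀ n, B (n + 1) →+ B n) (e : ∀ n, A n ≃+ B n)
    (he : ∀ n x, e n (s n x) = t n (e (n + 1) x)) :
    Nonempty (Formal2.limOne A s ≃+ Formal2.limOne B t) := by
  refine ⟨QuotientAddGroup.congr _ _ (AddEquiv.piCongrRight e) ?_⟩
  ext y
  constructor
  · rintro ⟨_, ⟨x, rfl⟩, rfl⟩
    refine ⟨fun n => e n (x n), funext fun n => ?_⟩
    exact ((map_sub (e n) _ _).trans (congrArg (e n (x n) - ·) (he n _))).symm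
  · rintro ⟨x, rfl⟩
    refine ⟨_, ⟨fun n => (e n).symm (x n), rfl⟩, funext fun n => ?_⟩
    refine (map_sub (e n) _ _).trans ?_
    rw [he, AddEquiv.apply_symm_apply, AddEquiv.apply_symm_apply]
    rfl

/-- `lim¹` does not see a quotient by the image of a surjective tower. -/
theorem congrLimOne_of_surjective {K A B : ℕ → Type u} [∀ n, AddCommGroup (K n)]
    [∀ n, AddCommGroup (A n)] [∀ n, AddCommGroup (B n)] (r : ∀ n, K (n + 1) →+ K n)
    (s : ∀ n, A (n + 1) →+ A n) (t : ∀ n, B (n + 1) →+ B n) (i : ∀ n, K n →+ A n) (e : ∀ n, A n →+ B n)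
    (hr : ∀ n, Function.Surjective (r n)) (hi : ∀ n x, i n (r n x) = s n (i (n + 1) x))
    (he : ∀ n x, e n (s n x) = t n (e (n + 1) x)) (hsurj : ∀ n, Function.Surjective (e n))
    (hex : ∀ n x, e n x = 0 → ∃ k, i n k = x) (hei : ∀ n k, e n (i n k) = 0) :
    Nonempty (Formal2.limOne A s ≃+ Formal2.limOne B t) := by
  let E : (∀ n, A n) →+ (∀ n, B n) :=
    AddMonoidHom.mk' (fun a n => e n (a n)) fun a b => funext fun n => map_add _ _ _
  let Φ : Formal2.limOne A s →+ Formal2.limOne B t := QuotientAddGroup.map _ _ E (by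
    rintro _ ⟨x, rfl⟩
    exact ⟨E x, funext fun n => ((map_sub (e n) _ _).trans (congrArg (e n (x n) - ·) (he n _))).symm⟩)
  refine ⟨AddEquiv.ofBijective Φ ⟨(injective_iff_map_eq_zero Φ).2 fun c hc => ?_, fun c => ?_⟩⟩
  · obtain ⟨a, rfl⟩ := QuotientAddGroup.mk'_surjective _ c
    obtain ⟨y, hy⟩ := (QuotientAddGroup.eq_zero_iff _).1 hc
    choose x hx using fun n => hsurj n (y n)
    have h0 : ∀ n, e n (a n - (x n - s n (x (n + 1)))) = 0 := fun n => by
      rw [map_sub, map_sub, he, hx, hx]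
      exact sub_eq_zero.2 (congrFun hy n).symm
    choose k hk using fun n => hex n _ (h0 n)
    obtain ⟨m, hm⟩ := towerDiff_surjective _ r hr k
    refine (QuotientAddGroup.eq_zero_iff _).2 ⟨fun n => x n + i n (m n), funext fun n => ?_⟩
    have h1 : i n (m n - r n (m (n + 1))) = a n - (x n - s n (x (n + 1))) :=
      (congrArg (i n) (congrFun hm n)).trans (hk n)
    rw [map_sub, hi] at h1
    show x n + i n (m n) - s n (x (n + 1) + i (n + 1) (m (n + 1))) = a n
    rw [map_add, ← sub_eq_zero]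
    rw [← sub_eq_zero] at h1
    refine Eq.trans ?_ h1
    abel
  · obtain ⟨b, rfl⟩ := QuotientAddGroup.mk'_surjective _ c
    choose a ha using fun n => hsurj n (b n)
    exact ⟨QuotientAddGroup.mk' _ a, congrArg (QuotientAddGroup.mk' _) (funext ha)⟩

/-- The tower of abelian groups of a sequence of maps. -/
noncomputable abbrev ofSeq (G : ℕ → Type u) [∀ n, AddCommGroup (G n)] (t : ∀ n, G (n + 1) →+ G n) :
    ℕᵒᵖ ⥤ AddCommGrpCat.{u} :=
  Functor.ofOpSequence (X := fun n => AddCommGrpCat.of (G n)) fun n => AddCommGrpCat.ofHom (t n)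

end Groth.Agent.LimTower.Equiv
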