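import Groth.Agent.LimTower.Complex
import Groth.Prelude.Def_DerCA

/-!
# Essentially constant systems; images of the limit
-/

universe u

open CategoryTheory CategoryTheory.Limits Opposite

namespace Groth.Agent.LimTower.EssConstant

open Groth.Agent.LimTower.Basic

theorem ml_of_isEssConstant (X : ℕᵒᵖ ⥤ AddCommGrpCat.{u}) (A : AddCommGrpCat.{u})
    (c : (Functor.const ℕᵒᵖ).obj A ⟶ X) (hc : DerCA.IsEssConstant X A c) : ML X := by
  obtain ⟨i, s, -, hs⟩ := hc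
  refine ML.mk fun j => ?_
  obtain ⟨k, hi, hj, e⟩ := hs j.unop
  refine ⟨op k, (homOfLE hj).op, fun m g x => ⟨(c.app m).hom (s.hom ((ARSys.tr X hi).hom x)), ?_⟩⟩
  refine (nat_app c g _).trans ?_
  exact (ConcreteCategory.congr_hom e x).symm

theorem ml_left_of_isEssConstant {A B C : ℕᵒᵖ ⥤ AddCommGrpCat.{u}} (a : A ⟶ B) (b : B ⟶ C)
    (ha : ∀ i, Function.Injective (a.app i).hom)
    (hex : ∀ i, (b.app i).hom.ker = (a.app i).hom.range) {C₀ : AddCommGrpCat.{u}}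
    (c : (Functor.const ℕᵒᵖ).obj C₀ ⟶ C) (hc : DerCA.IsEssConstant C C₀ c) (hB : ML B) : ML A := by
  obtain ⟨i, s, -, hs⟩ := hc
  refine ML.mk fun j => ?_
  let j₁ : ℕᵒᵖ := op (max i j.unop)
  let pj : j₁ ⟶ j := (homOfLE (le_max_right i j.unop)).op
  let pi : j₁ ⟶ op i := (homOfLE (le_max_left i j.unop)).op
  obtain ⟨K, f, hf⟩ := hB.stable j₁
  refine ⟨K, f ≫ pj, fun m g x => ?_⟩
  obtain ⟨k, hik, hmk, e⟩ := hs (max j₁.unop m.unop)
  obtain ⟨k₂, hk₂, hk₂'⟩ : ∃ k₂, k ≤ k₂ ∧ j₁.unop ≤ k₂ := ⟨max k j₁.unop, le_max_left _ _, le_max_right _ _⟩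
  obtain ⟨y, hy⟩ := hf (op k₂) (homOfLE hk₂').op ((a.app K).hom x)
  -- `y` maps to zero at `m`
  have h0 : (C.map (homOfLE ((le_max_left i j.unop).trans hk₂')).op).hom ((b.app (op k₂)).hom y) = 0 := by
    rw [← map_map C (homOfLE hk₂').op pi, nat_app, hy, show (b.app (op j₁.unop)).hom
      ((B.map f).hom ((a.app K).hom x)) = (C.map f).hom ((b.app K).hom ((a.app K).hom x)) from
      (nat_app b f _).symm, show (b.app K).hom ((a.app K).hom x) = 0 from (hex K).ge ⟨x, rfl⟩, map_zero]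
    exact map_zero _
  let pm : op k₂ ⟶ m := (homOfLE ((le_max_right j₁.unop m.unop).trans (hmk.trans hk₂))).op
  have hm : (b.app m).hom ((B.map pm).hom y) = 0 := by
    rw [← nat_app]
    have hq : (C.map pm).hom ((b.app (op k₂)).hom y) =
        (C.map (homOfLE (le_max_right j₁.unop m.unop)).op).hom ((ARSys.tr C hmk).hom
          ((C.map (homOfLE hk₂).op).hom ((b.app (op k₂)).hom y))) := by
      refine Eq.trans ?_ (congrArg _ (map_map C _ _ ((homOfLE hk₂).op ≫ (homOfLE hmk).op) _)).symm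
      exact (map_map C _ _ pm _).symm
    rw [hq, e]
    show (C.map _).hom ((c.app _).hom (s.hom ((ARSys.tr C hik).hom
      ((C.map (homOfLE hk₂).op).hom _)))) = 0
    have h1 : (ARSys.tr C hik).hom ((C.map (homOfLE hk₂).op).hom ((b.app (op k₂)).hom y)) = 0 :=
      (map_map C _ _ _ _).trans h0
    rw [h1, map_zero, map_zero, map_zero]
  obtain ⟨z, hz⟩ := (hex m).le (show (B.map pm).hom y ∈ (b.app m).hom.ker from hm)
  refine ⟨z, ha j ?_⟩
  rw [← nat_app, hz, map_map B pm g ((homOfLE hk₂').op ≫ pj), ← map_map B (homOfLE hk₂').op pj, hy,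
    map_map B f pj (f ≫ pj), nat_app]

theorem mem_range_limit (F : ℕᵒᵖ ⥤ AddCommGrpCat.{u}) (hF : ML F) (p : ℕ) (a : F.obj (op p))
    (h : ∀ (k : ℕ) (hk : p ≤ k), a ∈ (F.map (homOfLE hk).op).hom.range) :
    a ∈ (limit.π F (op p)).hom.range := by
  let G : ℕᵒᵖ ⥤ Type u := (F ⋙ forget AddCommGrpCat).toPreimages (i := op p) {a}
  have hG : G.IsMittagLeffler := Functor.IsMittagLeffler.toPreimages _ _ hF
  have hne : ∀ k, Nonempty (G.obj k) := fun k => by
    obtain ⟨z, hz⟩ := h (max k.unop p) (le_max_right _ _)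
    refine ⟨⟨(F.map (homOfLE (le_max_left k.unop p)).op).hom z, Set.mem_iInter.2 fun g => ?_⟩⟩
    show (F.map g).hom ((F.map _).hom z) = a
    rw [map_map F _ g (homOfLE (le_max_right k.unop p)).op, hz]
  obtain ⟨x, hx⟩ := exists_section ⟨Set.univ, Set.countable_univ, fun i => ⟨i, trivial, le_rfl⟩⟩ G hG hne
  obtain ⟨z, hz⟩ := exists_limit_eq F (limit.isLimit F) (fun k => (x k).1)
    fun i j f => congrArg Subtype.val (hx i j f)
  refine ⟨z, (hz (op p)).trans ?_⟩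
  have h1 : (F.map (𝟙 (op p))).hom (x (op p)).1 = a := Set.mem_iInter.1 (x (op p)).2 (𝟙 _)
  exact ((ConcreteCategory.congr_hom (F.map_id (op p)) _).symm).trans h1

theorem range_limit (F : ℕᵒᵖ ⥤ AddCommGrpCat.{u}) (hF : ML F) :
    (limit.π F (op 0)).hom.range = ⨅ k : ℕ, (F.map (homOfLE (Nat.zero_le k)).op).hom.range ∧
      ∀ p : ℕ, (limit.π F (op (p + 1))).hom.range ⊓ (F.map (homOfLE (Nat.le_succ p)).op).hom.ker =
        ⨅ (k : ℕ) (hk : p + 1 ≤ k),
          (F.map (homOfLE hk).op).hom.range ⊓ (F.map (homOfLE (Nat.le_succ p)).op).hom.ker := by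
  have hmem : ∀ p k (hk : p ≤ k) a, a ∈ (limit.π F (op p)).hom.range →
      a ∈ (F.map (homOfLE hk).op).hom.range := fun p k hk a ⟨z, hz⟩ =>
    ⟨(limit.π F (op k)).hom z, (limit_app_compat F z _ _ _).trans hz⟩
  refine ⟨AddSubgroup.ext fun a => ?_, fun p => AddSubgroup.ext fun a => ?_⟩
  · rw [AddSubgroup.mem_iInf]
    exact ⟨fun ha k => hmem 0 k _ a ha, fun h => mem_range_limit F hF 0 a fun k _ => h k⟩
  · simp only [AddSubgroup.mem_iInf, AddSubgroup.mem_inf]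
    exact ⟨fun ha k hk => ⟨hmem _ k hk a ha.1, ha.2⟩,
      fun h => ⟨mem_range_limit F hF (p + 1) a fun k hk => (h k hk).1, (h (p + 1) le_rfl).2⟩⟩

end Groth.Agent.LimTower.EssConstant
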