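import Groth.Agent.S14023

/-!
Injective towers: the terms are injective and the transition maps are split epimorphisms.
-/

set_option autoImplicit false

universe v u

open CategoryTheory CategoryTheory.Limits Opposite

namespace Groth.Agent.LimTower.InjTower

open S14023

variable {A : Type u} [Category.{v} A] [Abelian A]

/-- A transition map of a cofree tower is a split epimorphism. -/
lemma isSplitEpi_cofree (I : ℕ → A) (n : ℕ) :
    IsSplitEpi ((cofree I).map (homOfLE (Nat.le_succ n)).op) := by
  classical
  refine ⟨⟨Pi.lift fun m => if h : (m : ℕ) < n + 1 then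
    Pi.π (fun j : Fin (n + 1) => I j) ⟨m, h⟩ else 0, ?_⟩⟩
  refine Pi.hom_ext _ _ fun m => ?_
  refine (Category.assoc _ _ _).trans ((congrArg (_ ≫ ·) (Pi.lift_π _ m)).trans
    ((Pi.lift_π _ _).trans ((dif_pos m.isLt).trans (Category.id_comp _).symm)))

variable [EnoughInjectives A] (J : ℕᵒᵖ ⥤ A) [Injective J]

/-- An injective tower is a retract of a cofree tower on injectives. -/
lemma exists_retract : ∃ (I : ℕ → A) (_ : ∀ m, Injective (I m)) (i : J ⟶ cofree I)
    (r : cofree I ⟶ J), i ≫ r = 𝟙 J := by
  let e : J ⟶ cofree (fun m => Injective.under (J.obj (op m))) :=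
    cofreeLift _ J (fun m => Injective.ι _)
  have : Mono e := by
    rw [NatTrans.mono_iff_mono_app]
    rintro ⟨n⟩
    exact mono_of_mono_fac (cofreeLift_last _ J (fun m => Injective.ι _) n)
  exact ⟨_, fun m => inferInstanceAs (Injective (Injective.under _)), e,
    Injective.factorThru (𝟙 J) e, Injective.comp_factorThru _ _⟩

/-- The terms of an injective tower are injective. -/
lemma injective_obj (n : ℕ) : Injective (J.obj (op n)) := by
  obtain ⟨I, hI, i, r, h⟩ := exists_retract J
  have : ∀ m : Fin (n + 1), Injective (I m) := fun m => hI m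
  have : Injective ((cofree I).obj (op n)) :=
    inferInstanceAs (Injective (∏ᶜ fun m : Fin (n + 1) => I m))
  refine ⟨fun {X Y} g f _ => ?_⟩
  refine ⟨Injective.factorThru (g ≫ i.app _) f ≫ r.app _, ?_⟩
  rw [← Category.assoc, Injective.comp_factorThru, Category.assoc]
  exact (congrArg (g ≫ ·) (NatTrans.congr_app h (op n))).trans (Category.comp_id g)

/-- The transition maps of an injective tower are split epimorphisms. -/
lemma isSplitEpi_map (n : ℕ) : IsSplitEpi (J.map (homOfLE (Nat.le_succ n)).op) := by
  obtain ⟨I, hI, i, r, h⟩ := exists_retract J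
  have := isSplitEpi_cofree I n
  refine ⟨⟨i.app _ ≫ section_ ((cofree I).map (homOfLE (Nat.le_succ n)).op) ≫ r.app _, ?_⟩⟩
  rw [Category.assoc, Category.assoc, ← r.naturality, IsSplitEpi.id_assoc]
  exact NatTrans.congr_app h (op n)

end Groth.Agent.LimTower.InjTower
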