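import Groth.Agent.LimTower.Complex
import Groth.Prelude.Def_Formal2

/-!
# The `lim¹` sequence for a tower of complexes with surjective transition maps
-/

universe u

open CategoryTheory CategoryTheory.Limits Opposite

namespace Groth.Agent.LimTower.Milnor

open Groth.Agent.LimTower.Basic Groth.Agent.LimTower.Complex

theorem cof_nat : ∃ s : Set ℕ, s.Countable ∧ ∀ i, ∃ j ∈ s, i ≤ j :=
  ⟨Set.univ, Set.countable_univ, fun i => ⟨i, trivial, le_rfl⟩⟩

theorem towerDiff_surjective (G : ℕ → Type u) [∀ n, AddCommGroup (G n)] (t : ∀ n, G (n + 1) →+ G n)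
    (h : ∀ n, Function.Surjective (t n)) : Function.Surjective (Formal2.towerDiff G t) := by
  intro a
  choose r hr using fun n (b : G n) => h n b
  let x : ∀ n, G n := fun n => Nat.rec (motive := fun n => G n) 0 (fun n x => r n (x - a n)) n
  refine ⟨x, funext fun n => ?_⟩
  show x n - t n (r n (x n - a n)) = a n
  rw [hr, sub_sub_cancel]

theorem map_surjective (F : ℕᵒᵖ ⥤ AddCommGrpCat.{u})
    (h : ∀ n, Function.Surjective (F.map (homOfLE (Nat.le_succ n)).op).hom) {i j : ℕᵒᵖ} (f : i ⟶ j) :
    Function.Surjective (F.map f).hom := by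
  obtain ⟨i⟩ := i; obtain ⟨j⟩ := j
  have hij : j ≤ i := leOfHom f.unop
  obtain rfl : f = (homOfLE hij).op := Quiver.Hom.unop_inj (Subsingleton.elim _ _)
  induction i, hij using Nat.le_induction with
  | base =>
    intro x
    exact ⟨x, ConcreteCategory.congr_hom (F.map_id _) x⟩
  | succ i hij ih =>
    intro x
    obtain ⟨y, hy⟩ := ih x
    obtain ⟨z, hz⟩ := h i y
    refine ⟨z, ?_⟩
    rw [← hy, ← hz]
    exact (map_map F _ _ _ z).symm

theorem ml_of_surjective (F : ℕᵒᵖ ⥤ AddCommGrpCat.{u})
    (h : ∀ n, Function.Surjective (F.map (homOfLE (Nat.le_succ n)).op).hom) : ML F :=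
  ML.mk fun j => ⟨j, 𝟙 j, fun _ g x => map_surjective F h g _⟩

/-- Compatibility with successors suffices. -/
lemma compat_of_succ (F : ℕᵒᵖ ⥤ AddCommGrpCat.{u}) (x : ∀ n, F.obj (op n))
    (h : ∀ n, (F.map (homOfLE (Nat.le_succ n)).op).hom (x (n + 1)) = x n) (i j : ℕᵒᵖ) (f : i ⟶ j) :
    (F.map f).hom (x i.unop) = x j.unop := by
  obtain ⟨i⟩ := i; obtain ⟨j⟩ := j
  have hij : j ≤ i := leOfHom f.unop
  obtain rfl : f = (homOfLE hij).op := Quiver.Hom.unop_inj (Subsingleton.elim _ _)
  induction i, hij using Nat.le_induction with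
  | base => exact ConcreteCategory.congr_hom (F.map_id _) (x j)
  | succ i hij ih =>
    show _ = x j
    rw [← ih, ← h i]
    exact (map_map F _ _ _ (x (i + 1))).symm

variable (K : ℕᵒᵖ ⥤ HomologicalComplex AddCommGrpCat.{u} (ComplexShape.up ℤ))

/-- The transition map. -/
abbrev st (n : ℕ) : K.obj (op (n + 1)) ⟶ K.obj (op n) := K.map (homOfLE (Nat.le_succ n)).op

/-- The difference map on the families in degree `l`. -/
noncomputable def D (l : ℤ) : (∀ n, (K.obj (op n)).X l) →+ (∀ n, (K.obj (op n)).X l) :=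
  Formal2.towerDiff (fun n => (K.obj (op n)).X l) (fun n => ((st K n).f l).hom)

lemma D_apply (l : ℤ) (x : ∀ n, (K.obj (op n)).X l) (n : ℕ) :
    D K l x n = x n - ((st K n).f l).hom (x (n + 1)) := rfl

lemma d_D (l m : ℤ) (x : ∀ n, (K.obj (op n)).X l) (n : ℕ) :
    ((K.obj (op n)).d l m).hom (D K l x n) =
      ((K.obj (op n)).d l m).hom (x n) -
        ((st K n).f m).hom (((K.obj (op (n + 1))).d l m).hom (x (n + 1))) := by
  rw [D_apply, map_sub, d_map l (st K n) m]

/-- Families whose difference is a family of cocycles. -/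
def Y (q p : ℤ) : AddSubgroup (∀ n, (K.obj (op n)).X q) where
  carrier := {y | ∀ n, ((K.obj (op n)).d q p).hom (D K q y n) = 0}
  zero_mem' n := by rw [map_zero]; exact map_zero _
  add_mem' {a b} ha hb n := by rw [map_add, Pi.add_apply, map_add, ha n, hb n, add_zero]
  neg_mem' {a} ha n := by rw [map_neg, Pi.neg_apply, map_neg, ha n, neg_zero]

variable {q p : ℤ}

lemma compat_dY (y : Y K q p) (n : ℕ) :
    ((st K n).f p).hom (((K.obj (op (n + 1))).d q p).hom (y.1 (n + 1))) =
      ((K.obj (op n)).d q p).hom (y.1 n) := by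
  have h := y.2 n
  rw [d_D, sub_eq_zero] at h
  exact h.symm

lemma exists_zY (y : Y K q p) : ∃ z : (limit K).cycles p, ∀ n,
    ((limit.π K (op n)).f p).hom (((limit K).iCycles p).hom z) =
      ((K.obj (op n)).d q p).hom (y.1 n) := by
  obtain ⟨w, hw⟩ := exists_X K p (fun i => ((K.obj i).d q p).hom (y.1 i.unop))
    (compat_of_succ (deg K p) (fun n => ((K.obj (op n)).d q p).hom (y.1 n)) (compat_dY K y))
  obtain ⟨z, hz⟩ := exists_cycle (limit K) p (p + 1) rfl w (ext_X K (p + 1) _ _ fun i => by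
    rw [← d_map p (limit.π K i) (p + 1) w, hw, map_zero]
    exact ConcreteCategory.congr_hom ((K.obj i).d_comp_d q p (p + 1)) (y.1 i.unop))
  exact ⟨z, fun n => by rw [hz]; exact hw (op n)⟩

lemma cycle_ext (a b : (limit K).cycles p) (h : ∀ n,
    ((limit.π K (op n)).f p).hom (((limit K).iCycles p).hom a) =
      ((limit.π K (op n)).f p).hom (((limit K).iCycles p).hom b)) : a = b :=
  iCycles_injective (limit K) p (ext_X K p _ _ fun i => h i.unop)

/-- The class of the coboundary family. -/
noncomputable def zH : Y K q p →+ (limit K).homology p :=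
  AddMonoidHom.mk' (fun y => ((limit K).homologyπ p).hom (exists_zY K y).choose) fun a b =>
    (congrArg ((limit K).homologyπ p).hom (cycle_ext K _
      ((exists_zY K a).choose + (exists_zY K b).choose) fun n => by
        rw [map_add, map_add, (exists_zY K (a + b)).choose_spec, (exists_zY K a).choose_spec,
          (exists_zY K b).choose_spec]
        exact map_add ((K.obj (op n)).d q p).hom (a.1 n) (b.1 n))).trans (map_add _ _ _)

lemma zH_eq (y : Y K q p) (z : (limit K).cycles p) (h : ∀ n,
    ((limit.π K (op n)).f p).hom (((limit K).iCycles p).hom z) =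
      ((K.obj (op n)).d q p).hom (y.1 n)) : zH K y = ((limit K).homologyπ p).hom z :=
  congrArg ((limit K).homologyπ p).hom
    (cycle_ext K _ z fun n => ((exists_zY K y).choose_spec n).trans (h n).symm)

lemma post_zH (hqp : q + 1 = p) (y : Y K q p) :
    (limit.post K (HomologicalComplex.homologyFunctor _ _ p)).hom (zH K y) = 0 := by
  refine Concrete.limit_ext (Hf K p) _ _ fun i => ?_
  rw [map_zero]
  refine (π_post K p _ i).trans ((π_map p _ _).trans ?_)
  refine (π_eq_zero_iff (K.obj i) p q hqp _).2 ⟨y.1 i.unop, ?_⟩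
  rw [iCycles_map]
  exact ((exists_zY K y).choose_spec i.unop).symm

lemma exists_zH_eq (hqp : q + 1 = p) (h : (limit K).homology p)
    (hh : (limit.post K (HomologicalComplex.homologyFunctor _ _ p)).hom h = 0) :
    ∃ y : Y K q p, zH K y = h := by
  obtain ⟨z, rfl⟩ := π_surjective (limit K) p h
  have hex : ∀ n, ∃ y, ((K.obj (op n)).d q p).hom y =
      ((limit.π K (op n)).f p).hom (((limit K).iCycles p).hom z) := fun n => by
    rw [← iCycles_map]
    refine (π_eq_zero_iff (K.obj (op n)) p q hqp _).1 ?_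
    rw [← π_map, ← π_post, hh, map_zero]
    rfl
  choose y hy using hex
  have hyY : y ∈ Y K q p := fun n => by
    rw [d_D, hy, hy, sub_eq_zero]
    exact (compat_X K p _ (op (n + 1)) (op n) _).symm
  exact ⟨⟨y, hyY⟩, zH_eq K _ z fun n => (hy n).symm⟩

lemma exists_cy (hqp : q + 1 = p) (y : Y K q p) (n : ℕ) :
    ∃ z, ((K.obj (op n)).iCycles q).hom z = D K q y.1 n :=
  exists_cycle (K.obj (op n)) q p hqp _ (y.2 n)

/-- The classes of the differences. -/
noncomputable def cls (hqp : q + 1 = p) : Y K q p →+ (∀ n, (K.obj (op n)).homology q) :=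
  AddMonoidHom.mk' (fun y n => ((K.obj (op n)).homologyπ q).hom (exists_cy K hqp y n).choose)
    fun a b => funext fun n => by
      refine (congrArg ((K.obj (op n)).homologyπ q).hom (a₂ := (exists_cy K hqp a n).choose +
        (exists_cy K hqp b n).choose) (iCycles_injective _ q ?_)).trans (map_add _ _ _)
      rw [map_add, (exists_cy K hqp (a + b) n).choose_spec, (exists_cy K hqp a n).choose_spec,
        (exists_cy K hqp b n).choose_spec]
      exact congrFun (map_add (D K q) a.1 b.1) n

lemma cls_apply (hqp : q + 1 = p) (y : Y K q p) (n : ℕ) (z : (K.obj (op n)).cycles q)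
    (hz : ((K.obj (op n)).iCycles q).hom z = D K q y.1 n) :
    cls K hqp y n = ((K.obj (op n)).homologyπ q).hom z :=
  congrArg ((K.obj (op n)).homologyπ q).hom
    (iCycles_injective _ q ((exists_cy K hqp y n).choose_spec.trans hz.symm))

/-- The transition maps on cohomology. -/
noncomputable abbrev th (q : ℤ) (n : ℕ) :
    (K.obj (op (n + 1))).homology q →+ (K.obj (op n)).homology q :=
  (HomologicalComplex.homologyMap (st K n) q).hom

variable (hK : ∀ (n : ℕ) (q : ℤ), Function.Surjective ((st K n).f q).hom)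

include hK

lemma D_surjective (l : ℤ) : Function.Surjective (D K l) :=
  towerDiff_surjective _ _ fun n => hK n l

lemma exists_cls_eq (hqp : q + 1 = p) (c : ∀ n, (K.obj (op n)).homology q) :
    ∃ y : Y K q p, cls K hqp y = c := by
  choose z hz using fun n => π_surjective (K.obj (op n)) q (c n)
  obtain ⟨y, hy⟩ := D_surjective K hK q fun n => ((K.obj (op n)).iCycles q).hom (z n)
  refine ⟨⟨y, fun n => by rw [hy]; exact d_iCycles (K.obj (op n)) q p (z n)⟩, funext fun n => ?_⟩
  rw [← hz n]
  exact cls_apply K hqp _ n (z n) (congrFun hy n).symm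

omit hK in
lemma cls_mem_of_zH (hqp : q + 1 = p) (y : Y K q p) (h : zH K y = 0) :
    cls K hqp y ∈ (Formal2.towerDiff _ (th K q)).range := by
  obtain ⟨x, hx⟩ := (π_eq_zero_iff (limit K) p q hqp _).1 h
  have hyx : ∀ n, ∃ ζ, ((K.obj (op n)).iCycles q).hom ζ = y.1 n - ((limit.π K (op n)).f q).hom x :=
    fun n => exists_cycle _ q p hqp _ (by
      rw [map_sub, d_map q (limit.π K (op n)) p, hx]
      exact sub_eq_zero.2 ((exists_zY K y).choose_spec n).symm)
  choose ζ hζ using hyx
  refine ⟨fun n => ((K.obj (op n)).homologyπ q).hom (ζ n), funext fun n => ?_⟩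
  refine Eq.trans ?_ (cls_apply K hqp y n (ζ n - (HomologicalComplex.cyclesMap (st K n) q).hom (ζ (n + 1))) ?_).symm
  · show _ - (HomologicalComplex.homologyMap (st K n) q).hom _ = _
    rw [π_map, ← map_sub]
  · rw [map_sub, iCycles_map, hζ, hζ, map_sub, compat_X, D_apply]
    abel

lemma zH_eq_zero (hqp : q + 1 = p) (y : Y K q p)
    (h : cls K hqp y ∈ (Formal2.towerDiff _ (th K q)).range) : zH K y = 0 := by
  obtain ⟨r, hr⟩ : ∃ r, r + 1 = q := ⟨q - 1, sub_add_cancel _ _⟩
  obtain ⟨c, hc⟩ := h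
  choose ζ hζ using fun n => π_surjective (K.obj (op n)) q (c n)
  let e : ∀ n, (K.obj (op n)).cycles q := fun n => (exists_cy K hqp y n).choose -
    (ζ n - (HomologicalComplex.cyclesMap (st K n) q).hom (ζ (n + 1)))
  have he : ∀ n, ((K.obj (op n)).homologyπ q).hom (e n) = 0 := fun n => by
    rw [map_sub, map_sub, ← π_map, hζ, hζ, ← cls_apply K hqp y n _ (exists_cy K hqp y n).choose_spec,
      sub_eq_zero]
    exact (congrFun hc n).symm
  choose w hw using fun n => (π_eq_zero_iff (K.obj (op n)) q r hr (e n)).1 (he n)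
  obtain ⟨s, hs⟩ := D_surjective K hK r w
  let x : ∀ n, (K.obj (op n)).X q := fun n =>
    y.1 n - ((K.obj (op n)).iCycles q).hom (ζ n) - ((K.obj (op n)).d r q).hom (s n)
  have hx : ∀ n, ((st K n).f q).hom (x (n + 1)) = x n := fun n => by
    have h1 : ((K.obj (op n)).d r q).hom (D K r s n) = ((K.obj (op n)).iCycles q).hom (e n) := by
      rw [hs]; exact hw n
    rw [d_D, map_sub, map_sub, (exists_cy K hqp y n).choose_spec, iCycles_map, D_apply] at h1
    refine (sub_eq_zero.1 ?_).symm
    show _ - _ - _ - ((st K n).f q).hom (_ - _ - _) = 0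
    rw [map_sub, map_sub]
    calc _ = (y.1 n - ((st K n).f q).hom (y.1 (n + 1)) - (((K.obj (op n)).iCycles q).hom (ζ n) -
            ((st K n).f q).hom (((K.obj (op (n + 1))).iCycles q).hom (ζ (n + 1))))) -
          (((K.obj (op n)).d r q).hom (s n) - ((st K n).f q).hom
            (((K.obj (op (n + 1))).d r q).hom (s (n + 1)))) := by abel
      _ = 0 := by rw [h1, sub_self]
  obtain ⟨X, hX⟩ := exists_X K q (fun i => x i.unop) (compat_of_succ (deg K q) x hx)
  refine (π_eq_zero_iff (limit K) p q hqp _).2 ⟨X, ext_X K p _ _ fun i => ?_⟩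
  rw [← d_map q (limit.π K i) p X, hX]
  refine Eq.trans ?_ ((exists_zY K y).choose_spec i.unop).symm
  show ((K.obj (op i.unop)).d q p).hom (_ - _ - _) = _
  rw [map_sub, map_sub, d_iCycles, sub_zero,
    show ((K.obj (op i.unop)).d q p).hom (((K.obj (op i.unop)).d r q).hom (s i.unop)) = 0 from
      ConcreteCategory.congr_hom ((K.obj (op i.unop)).d_comp_d r q p) (s i.unop), sub_zero]

omit hK in
lemma equiv_of_data {Yt H G M : Type u} [AddCommGroup Yt] [AddCommGroup H] [AddCommGroup G]
    [AddCommGroup M] (z : Yt →+ H) (post : H →+ G) (c : Yt →+ M) (R : AddSubgroup M)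
    (h₁ : ∀ y, post (z y) = 0) (h₂ : ∀ h, post h = 0 → ∃ y, z y = h) (h₃ : Function.Surjective c)
    (h₄ : ∀ y, z y = 0 → c y ∈ R) (h₅ : ∀ y, c y ∈ R → z y = 0) :
    Nonempty (post.ker ≃+ M ⧸ R) := by
  let left := z.codRestrict post.ker fun y => AddMonoidHom.mem_ker.2 (h₁ y)
  let right : Yt →+ M ⧸ R := (QuotientAddGroup.mk' R).comp c
  have hleft : Function.Surjective left := fun h => by
    obtain ⟨y, hy⟩ := h₂ h.1 (AddMonoidHom.mem_ker.1 h.2)
    exact ⟨y, Subtype.ext hy⟩
  have hright : Function.Surjective right := fun x => by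
    obtain ⟨x, rfl⟩ := QuotientAddGroup.mk'_surjective _ x
    obtain ⟨y, hy⟩ := h₃ x
    exact ⟨y, congrArg _ hy⟩
  have hk : left.ker = right.ker := AddSubgroup.ext fun y =>
    ⟨fun h => (QuotientAddGroup.eq_zero_iff _).2 (h₄ y (congrArg Subtype.val h)),
      fun h => Subtype.ext (h₅ y ((QuotientAddGroup.eq_zero_iff _).1 h))⟩
  exact ⟨((QuotientAddGroup.quotientKerEquivOfSurjective left hleft).symm.trans
    (QuotientAddGroup.quotientAddEquivOfEq hk)).trans
    (QuotientAddGroup.quotientKerEquivOfSurjective right hright)⟩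

theorem ker_post_equiv (hqp : q + 1 = p) :
    Nonempty ((limit.post K (HomologicalComplex.homologyFunctor _ _ p)).hom.ker ≃+
      Formal2.limOne (fun n => (K.obj (op n)).homology q) (th K q)) := by
  let post' : (limit K).homology p →+
      ↑(limit (K ⋙ HomologicalComplex.homologyFunctor _ _ p) : AddCommGrpCat.{u}) :=
    (limit.post K (HomologicalComplex.homologyFunctor _ _ p)).hom
  have h2 : ∀ y, post' (zH K (q := q) (p := p) y) = 0 := post_zH K hqp
  have h3 : ∀ h, post' h = 0 → ∃ y : Y K q p, zH K y = h := exists_zH_eq K hqp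
  have e := equiv_of_data (zH K (q := q) (p := p)) post' (cls K hqp)
    (Formal2.towerDiff _ (th K q)).range h2 h3
    (exists_cls_eq K hK hqp) (cls_mem_of_zH K hqp) (zH_eq_zero K hK hqp)
  exact e

end Groth.Agent.LimTower.Milnor
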