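import Groth.Agent.LimTower.SheafTower
import Groth.Agent.LimTower.InjTower
import Groth.Agent.CohTop.Push
import Groth.Agent.ModShf.Flasque

/-!
# Derived limits of towers of sheaves of modules

* `exact_sections`: sections of a flasque resolution of an acyclic sheaf are exact.
* `isZero_rightDerived`: vanishing of `R^i lim` from vanishing on a basis.
-/

set_option autoImplicit false

universe u

open CategoryTheory CategoryTheory.Limits Opposite TopologicalSpace

namespace Groth.Agent.LimTower.ModTower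

open Groth.Agent.CohTop.Basic Groth.Agent.CohTop.Vanishing Groth.Agent.LimTower.SheafTower

variable {X : TopCat.{u}}

lemma app_injective_of_mono {A B : CohTop.Ab X} (f : A ⟶ B) [Mono f] (V : Opens X) :
    Function.Injective (f.hom.app (op V)).hom :=
  (AddCommGrpCat.mono_iff_injective _).1 ((Ev V).map_mono f)

/-- Sections of a flasque resolution of a sheaf without higher cohomology are exact. -/
theorem exact_sections (F : ℕ → CohTop.Ab X) (d : ∀ p, F p ⟶ F (p + 1)) (E : CohTop.Ab X)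
    (ι : E ⟶ F 0) (w₀ : ι ≫ d 0 = 0) (w : ∀ p, d p ≫ d (p + 1) = 0)
    (h₀ : (ShortComplex.mk _ _ w₀).Exact) (hι : Mono ι)
    (h : ∀ p, (ShortComplex.mk _ _ (w p)).Exact) (hF : ∀ p, TopCat.Sheaf.IsFlasque (F p))
    (V : Opens X) (hvan : ∀ i, Subsingleton (CohTop.HU E (i + 1) V)) (p : ℕ)
    (z : (F (p + 1)).obj.obj (op V)) (hz : ((d (p + 1)).hom.app (op V)).hom z = 0) :
    ∃ y, ((d p).hom.app (op V)).hom y = z := by
  let g : ∀ p, F p ⟶ kernel (d (p + 1)) := fun p => kernel.lift _ (d p) (w p)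
  have hg : ∀ p, g p ≫ kernel.ι (d (p + 1)) = d p := fun p => kernel.lift_ι _ _ _
  have wS : ∀ p, kernel.ι (d p) ≫ g p = 0 := fun p => by
    rw [← cancel_mono (kernel.ι (d (p + 1))), Category.assoc, hg, kernel.condition, zero_comp]
  let S : ℕ → ShortComplex (CohTop.Ab X) := fun p => ShortComplex.mk (kernel.ι (d p)) (g p) (wS p)
  have hS : ∀ p, (S p).ShortExact := fun p => by
    have : Epi (g p) := (h p).epi_kernelLift
    refine ShortComplex.ShortExact.mk' (ShortComplex.exact_of_f_is_kernel _ ?_) inferInstance this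
    refine KernelFork.IsLimit.ofι _ _ (fun k hk => kernel.lift _ k ?_)
      (fun k hk => kernel.lift_ι _ _ _) (fun k hk m hm => ?_)
    · rw [← hg p, ← Category.assoc]
      exact (congrArg (· ≫ _) hk).trans zero_comp
    · refine (cancel_mono (kernel.ι (d p))).1 ?_
      rw [kernel.lift_ι]
      exact hm
  have hv : ∀ p i, Subsingleton (CohTop.HU (kernel (d p) : CohTop.Ab X) (i + 1) V) := by
    intro p
    induction p with
    | zero =>
      intro i
      have := hι
      let e : E ≅ (kernel (d 0) : CohTop.Ab X) :=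
        (IsLimit.conePointUniqueUpToIso h₀.fIsKernel (limit.isLimit _))
      refine subsingleton_of_forall_eq 0 fun x => ?_
      have := hvan i
      rw [← HUmap_id (kernel (d 0) : CohTop.Ab X) (i + 1) V x, ← e.inv_hom_id, HUmap_comp,
        Subsingleton.elim (CohTop.HUmap e.inv (i + 1) V x) 0, map_zero]
    | succ p ih =>
      intro i
      refine subsingleton_of_forall_eq 0 fun x => ?_
      have := ih (i + 1)
      have := @Groth.Agent.CohTop.Flasque.HU_subsingleton _ (F p) (hF p) i V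
      obtain ⟨y, hy⟩ := HU_exact₃ (hS p) V (rfl : i + 1 + 1 = i + 2) x
        (@Subsingleton.elim (CohTop.HU (kernel (d p) : CohTop.Ab X) (i + 2) V) (ih (i + 1)) _ _)
      exact hy.symm.trans ((congrArg _ (@Subsingleton.elim (CohTop.HU (F p) (i + 1) V) this y 0)).trans
        (map_zero _))
  obtain ⟨a, ha⟩ := sections_exact (hS (p + 1)) V z (app_injective_of_mono (kernel.ι (d (p + 2))) V (by
    rw [map_zero]
    refine Eq.trans ?_ hz
    exact (ConcreteCategory.congr_hom (congrArg (fun φ => φ.hom.app (op V)) (hg (p + 1))) z)))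
  obtain ⟨y, hy⟩ := (Groth.Agent.CohTop.Push.sectδ_eq_zero_iff (hS p) V a).1
    (@Subsingleton.elim (CohTop.HU (kernel (d p) : CohTop.Ab X) 1 V) (hv p 0) _ _)
  refine ⟨y, ?_⟩
  rw [← ha, ← hy]
  exact (ConcreteCategory.congr_hom (congrArg (fun φ => φ.hom.app (op V)) (hg p)) y).symm

variable (R : Sheaf (Opens.grothendieckTopology X) RingCat.{u})

/-- Sections over `V` of a sheaf of modules, as an abelian group. -/
noncomputable abbrev SV (V : Opens X) : SheafOfModules.{u} R ⥤ AddCommGrpCat.{u} :=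
  SheafOfModules.forget R ⋙ PresheafOfModules.toPresheaf R.obj ⋙ (evaluation _ _).obj (op V)

theorem isFlasque_toSheaf (M : SheafOfModules.{u} R) [Injective M] :
    TopCat.Sheaf.IsFlasque (X := X) ((SheafOfModules.toSheaf R).obj M) :=
  ⟨fun {U V} i => (AddCommGrpCat.epi_iff_surjective _).2
    (ModShf.surjective_map_of_injective R M i.unop)⟩

variable (E : ℕᵒᵖ ⥤ SheafOfModules.{u} R) (I : InjectiveResolution E)

/-- Exactness of sections at the positive degrees of an injective resolution of a tower. -/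
theorem res_exact (V : Opens X) (n : ℕ)
    (hvan : ∀ i, Subsingleton (CohTop.HU ((SheafOfModules.toSheaf R).obj (E.obj (op n))) (i + 1) V))
    (p : ℕ) (z : (SV R V).obj ((I.cocomplex.X (p + 1)).obj (op n)))
    (hz : ((SV R V).map ((I.cocomplex.d (p + 1) (p + 2)).app (op n))).hom z = 0) :
    ∃ y, ((SV R V).map ((I.cocomplex.d p (p + 1)).app (op n))).hom y = z := by
  let G : (ℕᵒᵖ ⥤ SheafOfModules.{u} R) ⥤ CohTop.Ab X :=
    (evaluation ℕᵒᵖ (SheafOfModules.{u} R)).obj (op n) ⋙ SheafOfModules.toSheaf R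
  let S₀ : ShortComplex (ℕᵒᵖ ⥤ SheafOfModules.{u} R) :=
    ShortComplex.mk (I.ι.f 0) (I.cocomplex.d 0 1) I.ι_f_zero_comp_complex_d
  have e₀ : S₀.Exact := I.exact₀
  have e₁ : (S₀.map ((evaluation ℕᵒᵖ (SheafOfModules.{u} R)).obj (op n))).Exact := e₀.map _
  have e₂ := e₁.map (SheafOfModules.toSheaf.{u} R)
  refine exact_sections (fun p => G.obj (I.cocomplex.X p)) (fun p => G.map (I.cocomplex.d p (p + 1)))
    ((SheafOfModules.toSheaf R).obj (E.obj (op n))) (G.map (I.ι.f 0))
    (S₀.map G).zero (fun p => ((I.cocomplex.sc' p (p + 1) (p + 2)).map G).zero)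
    e₂ ?_ (fun p => ?_) (fun p => ?_) V hvan p z hz
  · have h1 : Mono ((I.ι.f 0).app (op n)) :=
      ((evaluation ℕᵒᵖ (SheafOfModules.{u} R)).obj (op n)).map_mono (I.ι.f 0)
    exact (SheafOfModules.toSheaf.{u} R).map_mono ((I.ι.f 0).app (op n))
  · have h := I.cocomplex_exactAt_succ p
    rw [HomologicalComplex.exactAt_iff' _ p (p + 1) (p + 2) (by simp) (by simp)] at h
    exact (h.map ((evaluation ℕᵒᵖ (SheafOfModules.{u} R)).obj (op n))).map
      (SheafOfModules.toSheaf.{u} R)
  · have := Groth.Agent.LimTower.InjTower.injective_obj (I.cocomplex.X p) n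
    exact isFlasque_toSheaf R ((I.cocomplex.X p).obj (op n))

theorem ml_terms (V : Opens X) (p : ℕ) : Basic.ML (I.cocomplex.X p ⋙ SV R V) :=
  ml_of_surjective _ fun n => by
    have := InjTower.isSplitEpi_map (I.cocomplex.X p) n
    have : IsSplitEpi ((SV R V).map ((I.cocomplex.X p).map (homOfLE (Nat.le_succ n)).op)) :=
      inferInstance
    exact (AddCommGrpCat.epi_iff_surjective _).1 (inferInstanceAs
      (Epi ((SV R V).map ((I.cocomplex.X p).map (homOfLE (Nat.le_succ n)).op))))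

/-- Lift cocycles of the limit, step `p`: `P` is the tower before degree `p`. -/
theorem exists_preimage (V : Opens X)
    (hvan : ∀ n i : ℕ, Subsingleton (CohTop.HU ((SheafOfModules.toSheaf R).obj (E.obj (op n))) (i + 1) V))
    (p : ℕ) (P : ℕᵒᵖ ⥤ AddCommGrpCat.{u}) (hP : Basic.ML P) (a : P ⟶ I.cocomplex.X p ⋙ SV R V)
    (ha : ∀ n b, ((SV R V).map ((I.cocomplex.d p (p + 1)).app n)).hom ((a.app n).hom b) = 0)
    (hex : ∀ n b, ((SV R V).map ((I.cocomplex.d p (p + 1)).app n)).hom b = 0 → ∃ c, (a.app n).hom c = b)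
    (x : (SV R V).obj (limit (I.cocomplex.X (p + 1))))
    (hx : ((SV R V).map (limMap (I.cocomplex.d (p + 1) (p + 2)))).hom x = 0) :
    ∃ y, ((SV R V).map (limMap (I.cocomplex.d p (p + 1)))).hom y = x := by
  have hπ : ∀ (a b : ℕ) (n : ℕᵒᵖ) z,
      ((SV R V).map (limit.π (I.cocomplex.X b) n)).hom (((SV R V).map (limMap (I.cocomplex.d a b))).hom z) =
      ((SV R V).map ((I.cocomplex.d a b).app n)).hom (((SV R V).map (limit.π (I.cocomplex.X a) n)).hom z) :=
    fun a b n z => ConcreteCategory.congr_hom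
      (((SV R V).map_comp _ _).symm.trans ((congrArg (SV R V).map (limMap_π _ n)).trans
        ((SV R V).map_comp _ _))) z
  let C := I.cocomplex.X (p + 1) ⋙ SV R V
  have hc : IsLimit ((SV R V).mapCone (limit.cone (I.cocomplex.X (p + 1)))) :=
    isLimitOfPreserves (SV R V) (limit.isLimit _)
  have hb : IsLimit ((SV R V).mapCone (limit.cone (I.cocomplex.X p))) :=
    isLimitOfPreserves (SV R V) (limit.isLimit _)
  obtain ⟨y, hy, hyx⟩ := Basic.exists_lift (A := P) (B := I.cocomplex.X p ⋙ SV R V) (C := C)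
    ⟨Set.univ, Set.countable_univ, fun i => ⟨i, trivial, le_rfl⟩⟩ a
    (Functor.whiskerRight (I.cocomplex.d p (p + 1)) (SV R V)) hex ha hP
    (fun n => ((SV R V).map (limit.π (I.cocomplex.X (p + 1)) n)).hom x)
    (fun i j f => ConcreteCategory.congr_hom
      (((SV R V).map_comp _ _).symm.trans (congrArg (SV R V).map (limit.w _ f))) x)
    (fun n => res_exact R E I V n.unop (hvan n.unop) p _ (by
      rw [← hπ, hx, map_zero]))
  obtain ⟨Y, hY⟩ := Basic.exists_limit_eq (I.cocomplex.X p ⋙ SV R V) hb y hy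
  refine ⟨Y, Concrete.isLimit_ext C hc _ _ fun n => ?_⟩
  exact (hπ p (p + 1) n Y).trans ((congrArg _ (hY n)).trans (hyx n))

/-- The derived limit in degree `p + 1` vanishes as soon as cocycles lift on a basis. -/
theorem isZero_rightDerived
    [(lim : (ℕᵒᵖ ⥤ SheafOfModules.{u} R) ⥤ SheafOfModules.{u} R).Additive]
    [HasInjectiveResolutions (ℕᵒᵖ ⥤ SheafOfModules.{u} R)]
    (B : Set (Opens X)) (hB : Opens.IsBasis B) (p : ℕ)
    (h : ∀ V ∈ B, ∀ x : (SV R V).obj (limit (I.cocomplex.X (p + 1))),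
      ((SV R V).map (limMap (I.cocomplex.d (p + 1) (p + 2)))).hom x = 0 →
      ∃ y, ((SV R V).map (limMap (I.cocomplex.d p (p + 1)))).hom y = x) :
    IsZero (((lim : (ℕᵒᵖ ⥤ SheafOfModules.{u} R) ⥤ SheafOfModules.{u} R).rightDerived (p + 1)).obj E) := by
  let L : (ℕᵒᵖ ⥤ SheafOfModules.{u} R) ⥤ SheafOfModules.{u} R := lim
  refine IsZero.of_iso ?_ (I.isoRightDerivedObj L (p + 1))
  rw [HomologicalComplex.homologyFunctor_obj, ← HomologicalComplex.exactAt_iff_isZero_homology,
    HomologicalComplex.exactAt_iff' _ p (p + 1) (p + 2) (by simp) (by simp)]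
  refine ((((L.mapHomologicalComplex _).obj I.cocomplex).sc' p (p + 1) (p + 2)).exact_map_iff_of_faithful
    (SheafOfModules.toSheaf.{u} R)).1 ?_
  refine (TopCat.Sheaf.exact_iff_stalkFunctor_map_exact (C := AddCommGrpCat.{u}) (X := X) _).2 fun q => ?_
  rw [ShortComplex.ab_exact_iff]
  intro t ht
  let S := (((L.mapHomologicalComplex _).obj I.cocomplex).sc' p (p + 1) (p + 2)).map
    (SheafOfModules.toSheaf.{u} R)
  obtain ⟨W, hq, b, rfl⟩ := TopCat.Presheaf.exists_germ_eq (C := AddCommGrpCat.{u}) (X := X)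
    S.X₂.obj t
  have h0 : (TopCat.Presheaf.germ (C := AddCommGrpCat.{u}) (X := X) S.X₃.obj W q hq).hom
      ((S.g.hom.app (op W)).hom b) = 0 :=
    (TopCat.Presheaf.stalkFunctor_map_germ_apply W q hq S.g.hom b).symm.trans ht
  obtain ⟨V₀, hqV₀, i₁, i₂, e⟩ := TopCat.Presheaf.germ_eq (C := AddCommGrpCat.{u}) (X := X)
    S.X₃.obj q hq hq _ 0 (h0.trans (map_zero _).symm)
  obtain ⟨V, hV, hqV, hVV₀⟩ := Opens.isBasis_iff_nbhd.1 hB hqV₀
  have hle : V ≤ W := hVV₀.trans (leOfHom i₁)
  have e' : (S.g.hom.app (op V)).hom (rs S.X₂ hle b) = 0 := by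
    refine (rs_app S.g hle b).trans ?_
    rw [← rs_rs S.X₃ (leOfHom i₁) hVV₀]
    exact (congrArg (rs S.X₃ hVV₀) (e.trans (map_zero _))).trans (map_zero _)
  obtain ⟨y, hy⟩ := h V hV (rs S.X₂ hle b) e'
  refine ⟨(TopCat.Presheaf.germ (C := AddCommGrpCat.{u}) (X := X) S.X₁.obj V q hqV).hom y, ?_⟩
  refine (TopCat.Presheaf.stalkFunctor_map_germ_apply V q hqV S.f.hom y).trans ?_
  refine Eq.trans (congrArg _ hy) ?_
  exact TopCat.Presheaf.germ_res_apply _ (homOfLE hle) q hqV b

end Groth.Agent.LimTower.ModTower
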